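import Mathlib.CategoryTheory.Abelian.Projective.Ext
import Mathlib.CategoryTheory.Abelian.Projective.Dimension
import Mathlib.CategoryTheory.Abelian.Projective.Resolution
import Mathlib.Algebra.Homology.Augment
import Mathlib.Algebra.Homology.ShortComplex.ExactFunctor

/-!
# Projective dimension through resolutions of finite length
-/

set_option autoImplicit false

universe w v u

open CategoryTheory CategoryTheory.Limits CategoryTheory.Abelian

namespace GrothLib.PdResolution

variable {C : Type u} [Category.{v} C] [Abelian C]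

theorem hasProjectiveDimensionLE_of_resolution [HasExt.{w} C] {X : C} (P : ProjectiveResolution X)
    (d : ℕ) (h : ∀ i : ℕ, d < i → IsZero (P.complex.X i)) : HasProjectiveDimensionLE X d := by
  refine HasProjectiveDimensionLT.mk.{w} fun i hi Y e => ?_
  obtain ⟨f, hf, rfl⟩ := P.extMk_surjective e (i + 1) rfl
  obtain rfl : f = 0 := (h i (by omega)).eq_of_src _ _
  exact P.extMk_zero _ rfl

/-- Prolong a resolution of the kernel of an epimorphism from a projective. -/
theorem exists_splice {X F : C} [Projective F] (p : F ⟶ X) [Epi p]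
    (Q : ProjectiveResolution (kernel p)) :
    ∃ P : ProjectiveResolution X, ∀ i : ℕ, IsZero (Q.complex.X i) → IsZero (P.complex.X (i + 1)) := by
  let q : Q.complex.X 0 ⟶ kernel p := Q.π.f 0
  have hq0 : Q.complex.d 1 0 ≫ q = 0 := Q.complex_d_comp_π_f_zero
  let f : Q.complex.X 0 ⟶ F := q ≫ kernel.ι p
  have w : Q.complex.d 1 0 ≫ f = 0 := by rw [← Category.assoc, hq0, zero_comp]
  let E := ChainComplex.augment Q.complex f w
  have haug : E.d 1 0 ≫ p = 0 := by
    show f ≫ p = 0
    simp [f]
  have hS₀ : (ShortComplex.mk (E.d 1 0) p haug).Exact := by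
    let S' := ShortComplex.mk (kernel.ι p) p (kernel.condition p)
    have hS' : S'.Exact := S'.exact_of_f_is_kernel (kernelIsKernel p)
    let φ : ShortComplex.mk (E.d 1 0) p haug ⟶ S' :=
      { τ₁ := q, τ₂ := 𝟙 F, τ₃ := 𝟙 X,
        comm₁₂ := by show q ≫ kernel.ι p = f ≫ 𝟙 F; simp [f]
        comm₂₃ := by show 𝟙 F ≫ p = p ≫ 𝟙 X; simp }
    haveI : Epi φ.τ₁ := (inferInstance : Epi (Q.π.f 0))
    haveI : IsIso φ.τ₂ := (inferInstance : IsIso (𝟙 F))
    haveI : Mono φ.τ₃ := (inferInstance : Mono (𝟙 X))
    exact (ShortComplex.exact_iff_of_epi_of_isIso_of_mono φ).2 hS'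
  have hS₁ : (ShortComplex.mk (E.d 2 1) (E.d 1 0) (E.d_comp_d _ _ _)).Exact := by
    let φ : ShortComplex.mk (Q.complex.d 1 0) q hq0 ⟶
        ShortComplex.mk (E.d 2 1) (E.d 1 0) (E.d_comp_d _ _ _) :=
      { τ₁ := 𝟙 _, τ₂ := 𝟙 _, τ₃ := kernel.ι p,
        comm₁₂ := by
          show 𝟙 _ ≫ E.d 2 1 = Q.complex.d 1 0 ≫ 𝟙 _
          rw [Category.id_comp, Category.comp_id]
          exact ChainComplex.augment_d_succ_succ _ _ _ 1 0
        comm₂₃ := by show 𝟙 _ ≫ f = q ≫ kernel.ι p; simp [f] }
    haveI : Epi φ.τ₁ := (inferInstance : Epi (𝟙 (Q.complex.X 1)))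
    haveI : IsIso φ.τ₂ := (inferInstance : IsIso (𝟙 (Q.complex.X 0)))
    haveI : Mono φ.τ₃ := (inferInstance : Mono (kernel.ι p))
    exact (ShortComplex.exact_iff_of_epi_of_isIso_of_mono φ).1 Q.exact₀
  let P : ProjectiveResolution X :=
    { complex := E
      projective := fun n => by
        cases n with
        | zero => exact (inferInstance : Projective F)
        | succ n => exact Q.projective n
      π := (ChainComplex.toSingle₀Equiv E X).symm ⟨p, haug⟩
      quasiIso := ⟨fun k => by
        cases k with
        | zero =>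
          rw [ChainComplex.quasiIsoAt₀_iff, ShortComplex.quasiIso_iff_of_zeros']
          · refine ⟨?_, ?_⟩
            · refine (ShortComplex.exact_iff_of_iso ?_).1 hS₀
              exact ShortComplex.isoMk (Iso.refl _) (Iso.refl _) (Iso.refl _)
                (by
                  show 𝟙 _ ≫ E.d 1 0 = E.d 1 0 ≫ 𝟙 _
                  rw [Category.id_comp, Category.comp_id])
                (by
                  show 𝟙 _ ≫ ((ChainComplex.toSingle₀Equiv E X).symm ⟨p, haug⟩).f 0 = p ≫ 𝟙 _
                  rw [Category.id_comp, Category.comp_id, ChainComplex.toSingle₀Equiv_symm_apply_f_zero])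
            · show Epi (((ChainComplex.toSingle₀Equiv E X).symm ⟨p, haug⟩).f 0)
              rw [ChainComplex.toSingle₀Equiv_symm_apply_f_zero]
              exact (‹Epi p› : Epi p)
          · exact E.shape 0 0 (by simp)
          · rfl
          · rfl
        | succ k =>
          rw [quasiIsoAt_iff_exactAt' _ _ (HomologicalComplex.exactAt_single_obj _ _ _ _ (by simp)),
            HomologicalComplex.exactAt_iff' _ (k + 2) (k + 1) k (by simp) (by simp)]
          cases k with
          | zero => exact hS₁
          | succ k =>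
            have h := Q.exact_succ k
            refine (ShortComplex.exact_iff_of_iso ?_).1 h
            exact ShortComplex.isoMk (Iso.refl _) (Iso.refl _) (Iso.refl _)
              (by
                show 𝟙 _ ≫ E.d (k + 3) (k + 2) = Q.complex.d (k + 2) (k + 1) ≫ 𝟙 _
                rw [Category.id_comp, Category.comp_id]
                exact ChainComplex.augment_d_succ_succ _ _ _ (k + 2) (k + 1))
              (by
                show 𝟙 _ ≫ E.d (k + 2) (k + 1) = Q.complex.d (k + 1) k ≫ 𝟙 _
                rw [Category.id_comp, Category.comp_id]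
                exact ChainComplex.augment_d_succ_succ _ _ _ (k + 1) k)⟩ }
  exact ⟨P, fun i hi => hi⟩

theorem exists_resolution [EnoughProjectives C] (d : ℕ) :
    ∀ X : C, HasProjectiveDimensionLE X d →
      ∃ P : ProjectiveResolution X, ∀ i : ℕ, d < i → IsZero (P.complex.X i) := by
  induction d with
  | zero =>
    intro X hX
    haveI : Projective X := (projective_iff_hasProjectiveDimensionLE_zero X).2 hX
    refine ⟨ProjectiveResolution.self X, fun i hi => ?_⟩
    exact HomologicalComplex.isZero_single_obj_X _ _ _ _ (by omega)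
  | succ d ih =>
    intro X hX
    let p := Projective.π X
    have hS : (ShortComplex.mk (kernel.ι p) p (kernel.condition p)).ShortExact :=
      { exact := ShortComplex.exact_of_f_is_kernel _ (kernelIsKernel p) }
    obtain ⟨Q, hQ⟩ := ih (kernel p)
      ((hS.hasProjectiveDimensionLT_X₃_iff d (inferInstance : Projective (Projective.over X))).1 hX)
    obtain ⟨P, hP⟩ := exists_splice p Q
    refine ⟨P, fun i hi => ?_⟩
    obtain ⟨j, rfl⟩ : ∃ j, i = j + 1 := ⟨i - 1, by omega⟩
    exact hP j (hQ j (by omega))

end GrothLib.PdResolution
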